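import Groth.Agent.Lib.FPMod20.Basic

/-!
# Modules as filtered colimits of finitely presented modules
-/

set_option autoImplicit false
set_option linter.style.haveILetI false

universe u

open CategoryTheory CategoryTheory.Limits

noncomputable section

namespace GrothLib.FPMod20

variable {A : Type u} [CommRing A]

section Colimit

variable {J : Type u} [SmallCategory J] [IsFiltered J] {D : J ⥤ ModuleCat.{u} A} {c : Cocone D}

theorem colimit_eq_zero (hc : IsColimit c) {i : J} {x : D.obj i} (h : c.ι.app i x = 0) :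
    ∃ (k : J) (g : i ⟶ k), D.map g x = 0 := by
  obtain ⟨k, f, g, hfg⟩ := Concrete.isColimit_exists_of_rep_eq (F := D) hc x (0 : D.obj i)
    (by rw [h, map_zero])
  exact ⟨k, f, by rw [hfg, map_zero]⟩

theorem exists_kill (hc : IsColimit c) {i : J} (S : Finset (D.obj i))
    (h : ∀ x ∈ S, c.ι.app i x = 0) : ∃ (k : J) (g : i ⟶ k), ∀ x ∈ S, D.map g x = 0 := by
  classical
  induction S using Finset.induction_on with
  | empty => exact ⟨i, 𝟙 i, fun x hx => absurd hx (Finset.notMem_empty x)⟩
  | insert a S ha ih =>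
    obtain ⟨k, g, hg⟩ := ih fun x hx => h x (Finset.mem_insert_of_mem hx)
    obtain ⟨l, g', hg'⟩ := colimit_eq_zero hc (x := D.map g a) (by
      rw [← ConcreteCategory.comp_apply, c.w]
      exact h a (Finset.mem_insert_self a S))
    refine ⟨l, g ≫ g', fun x hx => ?_⟩
    rw [D.map_comp, ConcreteCategory.comp_apply]
    rcases Finset.mem_insert.1 hx with rfl | hx
    · exact hg'
    · rw [hg x hx, map_zero]

theorem exists_factor (hc : IsColimit c) (X : ModuleCat.{u} A) [Module.FinitePresentation A X]
    (f : X ⟶ c.pt) : ∃ (j : J) (g : X ⟶ D.obj j), g ≫ c.ι.app j = f := by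
  classical
  obtain ⟨n, m, p, r, hp, hpr⟩ := Module.FinitePresentation.exists_fin' A X
  choose i y hy using fun a : Fin n => Concrete.isColimit_exists_rep (F := D) hc (f (p (Pi.single a 1)))
  obtain ⟨k, hk⟩ := IsFiltered.sup_objs_exists (Finset.univ.image i)
  choose e he using fun a : Fin n => (hk (Finset.mem_image_of_mem i (Finset.mem_univ a)) :
    Nonempty (i a ⟶ k)).elim fun q => (⟨q, trivial⟩ : ∃ _ : i a ⟶ k, True)
  let q : (Fin n → A) →ₗ[A] D.obj k := Fintype.linearCombination A fun a => D.map (e a) (y a)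
  have hq : ∀ v, c.ι.app k (q v) = f (p v) := fun v => by
    refine LinearMap.congr_fun ((Pi.basisFun A (Fin n)).ext (f₁ := (c.ι.app k).hom ∘ₗ q)
      (f₂ := f.hom ∘ₗ p) fun a => ?_) v
    simp only [Pi.basisFun_apply, LinearMap.comp_apply, q, Fintype.linearCombination_apply_single, one_smul]
    rw [← ConcreteCategory.comp_apply, c.w]
    exact hy a
  obtain ⟨l, g, hg⟩ := exists_kill hc (i := k) (Finset.univ.image fun b : Fin m => q (r (Pi.single b 1)))
    fun x hx => by
      obtain ⟨b, -, rfl⟩ := Finset.mem_image.1 hx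
      rw [hq, hpr.apply_apply_eq_zero, map_zero]
  have hker : LinearMap.ker p ≤ LinearMap.ker ((D.map g).hom ∘ₗ q) := by
    intro v hv
    obtain ⟨w, rfl⟩ := (hpr v).1 hv
    exact LinearMap.congr_fun ((Pi.basisFun A (Fin m)).ext (f₁ := ((D.map g).hom ∘ₗ q) ∘ₗ r) (f₂ := 0)
      fun b => by
        simpa using hg _ (Finset.mem_image_of_mem _ (Finset.mem_univ b))) w
  let h : X →ₗ[A] D.obj l := (LinearMap.ker p).liftQ _ hker ∘ₗ (p.quotKerEquivOfSurjective hp).symm.toLinearMap
  refine ⟨l, ModuleCat.ofHom h, ModuleCat.hom_ext (LinearMap.ext fun z => ?_)⟩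
  obtain ⟨v, rfl⟩ := hp z
  change c.ι.app l ((LinearMap.ker p).liftQ ((D.map g).hom ∘ₗ q) hker
    ((p.quotKerEquivOfSurjective hp).symm (p v))) = f (p v)
  rw [LinearMap.quotKerEquivOfSurjective_symm_apply, Submodule.liftQ_apply, LinearMap.comp_apply,
    ← hq, ← ConcreteCategory.comp_apply, c.w]

theorem exists_eq (hc : IsColimit c) (X : ModuleCat.{u} A) [Module.Finite A X] {j : J}
    (g g' : X ⟶ D.obj j) (h : g ≫ c.ι.app j = g' ≫ c.ι.app j) :
    ∃ (k : J) (e : j ⟶ k), g ≫ D.map e = g' ≫ D.map e := by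
  classical
  obtain ⟨S, hS⟩ := Module.Finite.fg_top (R := A) (M := X)
  obtain ⟨k, e, he⟩ := exists_kill hc (S.image fun x => g x - g' x) fun y hy => by
    obtain ⟨x, -, rfl⟩ := Finset.mem_image.1 hy
    rw [map_sub, ← ConcreteCategory.comp_apply, h, ← ConcreteCategory.comp_apply, sub_self]
  refine ⟨k, e, ModuleCat.hom_ext (LinearMap.ext_on hS fun x hx => ?_)⟩
  have := he _ (Finset.mem_image_of_mem _ hx)
  rw [map_sub, sub_eq_zero] at this
  exact this

theorem exists_eq' (hc : IsColimit c) (X : ModuleCat.{u} A) [Module.Finite A X] {j j' : J}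
    (g : X ⟶ D.obj j) (g' : X ⟶ D.obj j') (h : g ≫ c.ι.app j = g' ≫ c.ι.app j') :
    ∃ (k : J) (e : j ⟶ k) (e' : j' ⟶ k), g ≫ D.map e = g' ≫ D.map e' := by
  obtain ⟨k, e, he⟩ := exists_eq hc X (g ≫ D.map (IsFiltered.leftToMax j j'))
    (g' ≫ D.map (IsFiltered.rightToMax j j')) (by simpa using h)
  exact ⟨k, IsFiltered.leftToMax j j' ≫ e, IsFiltered.rightToMax j j' ≫ e, by simpa using he⟩

end Colimit

variable (M : ModuleCat.{u} A)

/-- Finitely presented modules over a module. -/
abbrev Over' := CostructuredArrow (prop A).ι M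

instance isFiltered_over : IsFiltered (Over' M) where
  nonempty := ⟨CostructuredArrow.mk (Y := of (Fin 0 → A)) (0 : _ ⟶ M)⟩
  cocone_objs X Y :=
    ⟨CostructuredArrow.mk (Y := of (X.left.obj × Y.left.obj))
      (ModuleCat.ofHom (LinearMap.coprod X.hom.hom Y.hom.hom)),
      CostructuredArrow.homMk (hom (LinearMap.inl A X.left.obj Y.left.obj))
        (ModuleCat.hom_ext (LinearMap.coprod_inl _ _)),
      CostructuredArrow.homMk (hom (LinearMap.inr A X.left.obj Y.left.obj))
        (ModuleCat.hom_ext (LinearMap.coprod_inr _ _)), trivial⟩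
  cocone_maps {X Y} f g := by
    let R := LinearMap.range (lin f.left - lin g.left)
    haveI : Module.FinitePresentation A (Y.left.obj ⧸ R) :=
      Module.finitePresentation_of_surjective R.mkQ R.mkQ_surjective (by
        rw [Submodule.ker_mkQ]
        change (LinearMap.range _).FG
        rw [LinearMap.range_eq_map]
        exact Submodule.FG.map _ Module.Finite.fg_top)
    have hR : R ≤ LinearMap.ker Y.hom.hom := by
      rintro _ ⟨x, rfl⟩
      have h1 : Y.hom.hom (lin f.left x) = X.hom.hom x :=
        LinearMap.congr_fun (congrArg ModuleCat.Hom.hom (CostructuredArrow.w f)) x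
      have h2 : Y.hom.hom (lin g.left x) = X.hom.hom x :=
        LinearMap.congr_fun (congrArg ModuleCat.Hom.hom (CostructuredArrow.w g)) x
      rw [LinearMap.mem_ker, LinearMap.sub_apply, map_sub, h1, h2, sub_self]
    refine ⟨CostructuredArrow.mk (Y := of (Y.left.obj ⧸ R)) (ModuleCat.ofHom (R.liftQ _ hR)),
      CostructuredArrow.homMk (hom R.mkQ) (ModuleCat.hom_ext (R.liftQ_mkQ _ hR)), ?_⟩
    refine CostructuredArrow.hom_ext _ _ (ext' fun x => ?_)
    exact (Submodule.Quotient.eq R).2 ⟨x, rfl⟩

/-- The canonical cocone. -/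
abbrev canonical : Cocone (CostructuredArrow.proj (prop A).ι M ⋙ (prop A).ι) :=
  (Functor.LeftExtension.mk (𝟭 _) (prop A).ι.rightUnitor.inv).coconeAt M

instance essentiallySmall_prop : ObjectProperty.EssentiallySmall.{u} (prop A) where
  exists_small_le' := by
    refine ⟨ObjectProperty.ofObj fun p : Σ n : ℕ, Submodule A (Fin n → A) =>
      ModuleCat.of A ((Fin p.1 → A) ⧸ p.2), inferInstance, fun X hX => ?_⟩
    haveI : Module.FinitePresentation A X := hX
    obtain ⟨n, f, hf⟩ := Module.Finite.exists_fin' A X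
    exact ⟨_, .mk ⟨n, LinearMap.ker f⟩, ⟨(f.quotKerEquivOfSurjective hf).symm.toModuleIso⟩⟩

theorem canonical_ι_app (X : Over' M) : (canonical M).ι.app X = X.hom := by
  simp [canonical]
  exact Category.id_comp _

/-- Canonical colimits exist when filtered colimits do. -/
instance hasColimitsOfShape_over {B : Type*} [Category B] [HasFilteredColimitsOfSize.{u, u} B] :
    HasColimitsOfShape (Over' M) B := by
  let e := equivSmallModel.{u} (Over' M)
  haveI : IsFiltered (SmallModel.{u} (Over' M)) := IsFiltered.of_equivalence e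
  haveI : HasColimitsOfShape (SmallModel.{u} (Over' M)) B := HasFilteredColimitsOfSize.HasColimitsOfShape _
  exact hasColimitsOfShape_of_equivalence e.symm

theorem preservesColimitsOfShape_over {B : Type*} [Category B] (E : ModuleCat.{u} A ⥤ B)
    [PreservesFilteredColimitsOfSize.{u, u} E] : PreservesColimitsOfShape (Over' M) E := by
  let e := equivSmallModel.{u} (Over' M)
  haveI : IsFiltered (SmallModel.{u} (Over' M)) := IsFiltered.of_equivalence e
  exact preservesColimitsOfShape_of_equiv e.symm E

/-- Every module is the canonical colimit of finitely presented modules. -/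
theorem isDenseAt : (prop A).ι.isDenseAt M := by
  haveI := preservesColimitsOfShape_over M (forget (ModuleCat.{u} A))
  haveI : ReflectsColimitsOfShape (Over' M) (forget (ModuleCat.{u} A)) :=
    reflectsColimitsOfShape_of_reflectsIsomorphisms
  refine ⟨(isColimitOfReflects (forget (ModuleCat.{u} A)) ?_ : IsColimit (canonical M))⟩
  refine Types.FilteredColimit.isColimitOf' _ _ (fun (z : M) => ?_) (fun X (x y : X.left.obj) hxy => ?_)
  · let X₀ : Over' M :=
      CostructuredArrow.mk (Y := one A) (ModuleCat.ofHom (LinearMap.toSpanSingleton A M z))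
    refine ⟨X₀, (1 : A), ?_⟩
    exact (one_smul A z).symm.trans (ConcreteCategory.congr_hom (canonical_ι_app M X₀) (1 : A)).symm
  · change (canonical M).ι.app X x = (canonical M).ι.app X y at hxy
    rw [canonical_ι_app] at hxy
    let R : Submodule A X.left.obj := Submodule.span A {(x : X.left.obj) - y}
    haveI : Module.FinitePresentation A (X.left.obj ⧸ R) :=
      Module.finitePresentation_of_surjective R.mkQ R.mkQ_surjective
        (by rw [Submodule.ker_mkQ]; exact Submodule.fg_span_singleton _)
    have hR : R ≤ LinearMap.ker X.hom.hom :=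
      (Submodule.span_singleton_le_iff_mem _ _).2 (LinearMap.sub_mem_ker_iff.2 hxy)
    refine ⟨CostructuredArrow.mk (Y := of (X.left.obj ⧸ R)) (ModuleCat.ofHom (R.liftQ _ hR)),
      CostructuredArrow.homMk (hom R.mkQ) (ModuleCat.hom_ext (R.liftQ_mkQ _ hR)), ?_⟩
    exact (Submodule.Quotient.eq R).2 (Submodule.mem_span_singleton_self _)

instance isDense : (prop A).ι.IsDense := ⟨fun M => isDenseAt M⟩

end GrothLib.FPMod20
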