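import Groth.Agent.Lib.FPMod20.Basic

/-!
# Natural transformations of right exact functors on finitely presented modules
-/

set_option autoImplicit false
set_option linter.style.haveILetI false

universe u v' u'

open CategoryTheory CategoryTheory.Limits

noncomputable section

namespace GrothLib.FPMod20

variable {A : Type u} [CommRing A] {B : Type u'} [Category.{v'} B] [Preadditive B]
  (F F' : FP A ⥤ B) [PreservesFiniteColimits F] [PreservesFiniteColimits F']

theorem hom_ext_free {n : ℕ} {T : B} {f g : F.obj (free A n) ⟶ T}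
    (h : ∀ i, F.map (inj i) ≫ f = F.map (inj i) ≫ g) : f = g := by
  haveI := additive_of_rightExact F
  have h1 : F.map (∑ i : Fin n, proj (A := A) i ≫ inj i) = 𝟙 _ := by
    rw [sum_proj_inj, F.map_id]
  rw [← Category.id_comp f, ← Category.id_comp g, ← h1, F.map_sum, Preadditive.sum_comp,
    Preadditive.sum_comp]
  refine Finset.sum_congr rfl fun i _ => ?_
  rw [F.map_comp, Category.assoc, Category.assoc, h]

omit [PreservesFiniteColimits F'] in
theorem natTrans_ext (t t' : F ⟶ F') (h : t.app (one A) = t'.app (one A)) : t = t' := by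
  ext X
  obtain ⟨n, m, π, d, w, -, ⟨hc⟩⟩ := exists_presentation X
  haveI := additive_of_rightExact F
  haveI : Epi (F.map π) := epi_of_isColimit_cofork (CokernelCofork.mapIsColimit _ hc F)
  rw [← cancel_epi (F.map π), t.naturality, t'.naturality]
  congr 1
  refine hom_ext_free F fun i => ?_
  rw [t.naturality, t'.naturality, h]

variable {F F'} (φ : F.obj (one A) ⟶ F'.obj (one A))
  (hφ : ∀ a : A, F.map (mul a) ≫ φ = φ ≫ F'.map (mul a))

/-- The extension to free modules. -/
def onFree (n : ℕ) : F.obj (free A n) ⟶ F'.obj (free A n) :=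
  ∑ i : Fin n, F.map (proj i) ≫ φ ≫ F'.map (inj i)

omit [PreservesFiniteColimits F'] in
theorem inj_onFree {n : ℕ} (i : Fin n) :
    F.map (inj i) ≫ onFree φ n = φ ≫ F'.map (inj i) := by
  haveI := additive_of_rightExact F
  rw [onFree, Preadditive.comp_sum, Finset.sum_eq_single i]
  · rw [← Category.assoc, ← F.map_comp, inj_proj, F.map_id, Category.id_comp]
  · intro j _ hj
    rw [← Category.assoc, ← F.map_comp, inj_proj_of_ne hj, F.map_zero, zero_comp]
  · simp

include hφ in
theorem onFree_natural {m n : ℕ} (g : free A m ⟶ free A n) :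
    F.map g ≫ onFree φ n = onFree φ m ≫ F'.map g := by
  haveI := additive_of_rightExact F
  haveI := additive_of_rightExact F'
  refine hom_ext_free F fun i => ?_
  rw [← Category.assoc, ← F.map_comp, ← Category.assoc, inj_onFree, Category.assoc, ← F'.map_comp]
  have hdec : inj i ≫ g = ∑ j : Fin n, ((inj i ≫ g) ≫ proj j) ≫ inj j := by
    simp only [Category.assoc, ← Preadditive.comp_sum, sum_proj_inj, Category.comp_id]
  rw [hdec, F.map_sum, F'.map_sum, Preadditive.sum_comp, Preadditive.comp_sum]
  refine Finset.sum_congr rfl fun j _ => ?_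
  rw [F.map_comp ((inj i ≫ g) ≫ proj j), F'.map_comp ((inj i ≫ g) ≫ proj j), Category.assoc,
    inj_onFree, eq_mul ((inj i ≫ g) ≫ proj j), ← Category.assoc, hφ, Category.assoc]

include hφ in
/-- A morphism commuting with scalars is the value of a natural transformation. -/
theorem exists_natTrans : ∃ t : F ⟶ F', t.app (one A) = φ := by
  haveI := additive_of_rightExact F
  choose n m π d w hπ hc using fun X : FP A => exists_presentation X
  have hex : ∀ X, ∃ t : F.obj X ⟶ F'.obj X, F.map (π X) ≫ t = onFree φ (n X) ≫ F'.map (π X) := by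
    intro X
    let hcF := CokernelCofork.mapIsColimit _ (hc X).some F
    obtain ⟨t, ht⟩ := CokernelCofork.IsColimit.desc' hcF (onFree φ (n X) ≫ F'.map (π X)) (by
      haveI := additive_of_rightExact F'
      rw [← Category.assoc, onFree_natural φ hφ, Category.assoc, ← F'.map_comp, w, F'.map_zero,
        comp_zero])
    exact ⟨t, ht⟩
  choose t ht using hex
  have key : ∀ (X : FP A) (k : ℕ) (q : free A k ⟶ X),
      F.map q ≫ t X = onFree φ k ≫ F'.map q := by
    intro X k q
    obtain ⟨u, rfl⟩ := exists_lift (π X) (hπ X) q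
    rw [F.map_comp, Category.assoc, ht, ← Category.assoc, onFree_natural φ hφ, Category.assoc,
      F'.map_comp]
  refine ⟨{ app := t, naturality := fun X Y h => ?_ }, ?_⟩
  · haveI : Epi (F.map (π X)) := epi_of_isColimit_cofork (CokernelCofork.mapIsColimit _ (hc X).some F)
    rw [← cancel_epi (F.map (π X)), ← Category.assoc, ← F.map_comp, key, ← Category.assoc, ht,
      Category.assoc, ← F'.map_comp]
  · have h1 := key (one A) 1 (proj 0)
    have h2 : inj (A := A) (0 : Fin 1) ≫ proj 0 = 𝟙 _ := inj_proj 0
    have h3 := congrArg (F.map (inj (0 : Fin 1)) ≫ ·) h1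
    simp only [← Category.assoc, ← F.map_comp, h2, inj_onFree] at h3
    simp only [Category.assoc, ← F'.map_comp, h2] at h3
    simpa using h3

end GrothLib.FPMod20
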