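import Groth.Agent.Lib.FPMod20.Extension
import Groth.Agent.Lib.FPMod20.Hom

/-!
# Additivity and right exactness of extensions
-/

set_option autoImplicit false
set_option linter.style.haveILetI false

universe u v' u'

open CategoryTheory CategoryTheory.Limits

noncomputable section

namespace GrothLib.FPMod20

variable {A : Type u} [CommRing A] {B : Type u'} [Category.{v'} B] [Preadditive B]
  (E : ModuleCat.{u} A ⥤ B) [PreservesFilteredColimitsOfSize.{u, u} E]

theorem additive_of_restriction [((prop A).ι ⋙ E).Additive] : E.Additive := by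
  refine ⟨fun {M N f g} => hom_ext_of_preserves E fun X p => ?_⟩
  obtain ⟨Y, a, b, -⟩ := IsFilteredOrEmpty.cocone_objs (C := Over' N)
    (CostructuredArrow.mk (Y := X) (p ≫ f)) (CostructuredArrow.mk (Y := X) (p ≫ g))
  let a' : X ⟶ Y.left := a.left
  let b' : X ⟶ Y.left := b.left
  have ha : a'.hom ≫ Y.hom = p ≫ f := CostructuredArrow.w a
  have hb : b'.hom ≫ Y.hom = p ≫ g := CostructuredArrow.w b
  have h : E.map (a'.hom + b'.hom) = E.map a'.hom + E.map b'.hom :=
    ((prop A).ι ⋙ E).map_add (f := a') (g := b')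
  rw [Preadditive.comp_add, ← E.map_comp, ← E.map_comp, ← E.map_comp, Preadditive.comp_add, ← ha,
    ← hb, ← Preadditive.add_comp]
  erw [E.map_comp, E.map_comp, E.map_comp, h, Preadditive.add_comp]

theorem exists_finset_decomposition {J : Type u} {f : J → ModuleCat.{u} A} {c : Cofan f}
    (hc : IsColimit c) (π : ∀ i, c.pt ⟶ f i) (h₁ : ∀ i, c.inj i ≫ π i = 𝟙 _)
    (h₂ : ∀ i j, i ≠ j → c.inj i ≫ π j = 0) (X : FP A) (p : X.obj ⟶ c.pt) :
    ∃ S : Finset J, p = ∑ i ∈ S, p ≫ π i ≫ c.inj i := by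
  classical
  let good : Submodule A c.pt :=
    ⨆ i, LinearMap.range (c.inj i).hom
  have hgood : good = ⊤ := by
    rw [← good.ker_mkQ, LinearMap.ker_eq_top]
    have : ModuleCat.ofHom good.mkQ = 0 := hc.hom_ext fun ⟨i⟩ => by
      refine ModuleCat.hom_ext (LinearMap.ext fun x => ?_)
      exact (Submodule.Quotient.mk_eq_zero good).2 (Submodule.mem_iSup_of_mem i ⟨x, rfl⟩)
    exact congrArg ModuleCat.Hom.hom this
  have key : ∀ z : c.pt, ∃ S : Finset J, z ∈ ⨆ i ∈ S, LinearMap.range (c.inj i).hom := fun z =>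
    Submodule.exists_finset_of_mem_iSup _ (show z ∈ good from hgood ▸ trivial)
  obtain ⟨T, hT⟩ := Module.Finite.fg_top (R := A) (M := X.obj)
  choose S hS using key
  refine ⟨T.biUnion fun x => S (p x), ModuleCat.hom_ext (LinearMap.ext_on hT fun x hx => ?_)⟩
  set U := T.biUnion fun x => S (p x)
  rw [ModuleCat.hom_sum, LinearMap.sum_apply]
  have hle : (⨆ i ∈ U, LinearMap.range (c.inj i).hom) ≤
      LinearMap.eqLocus LinearMap.id (∑ i ∈ U, (π i ≫ c.inj i).hom) := by
    refine iSup₂_le fun i hi => ?_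
    rintro _ ⟨w, rfl⟩
    rw [LinearMap.mem_eqLocus, LinearMap.sum_apply, Finset.sum_eq_single i]
    · have : c.inj i ≫ π i ≫ c.inj i = c.inj i := by rw [reassoc_of% h₁ i]
      exact (ConcreteCategory.congr_hom this w).symm
    · intro j _ hji
      have : c.inj i ≫ π j ≫ c.inj j = 0 := by rw [reassoc_of% h₂ i j (Ne.symm hji), zero_comp]
      exact ConcreteCategory.congr_hom this w
    · exact fun h => absurd hi h
  have hle' : (⨆ i ∈ S (p x), LinearMap.range (c.inj i).hom) ≤ ⨆ i ∈ U, LinearMap.range (c.inj i).hom :=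
    biSup_mono (fun i hi => Finset.mem_biUnion.2 ⟨x, hx, hi⟩)
  have hmem : p x ∈ ⨆ i ∈ U, LinearMap.range (c.inj i).hom := hle' (hS (p x))
  exact (hle hmem).trans (LinearMap.sum_apply _ _ _)

theorem preservesCoproducts [E.Additive] (J : Type u) : PreservesColimitsOfShape (Discrete J) E := by
  classical
  haveI : ∀ f : J → ModuleCat.{u} A, PreservesColimit (Discrete.functor f) E := ?_
  · exact preservesColimitsOfShape_of_discrete E
  refine fun f => ⟨fun {c} hc => ⟨?_⟩⟩
  let c' : Cofan f := c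
  let π : ∀ i, c'.pt ⟶ f i := fun i => Cofan.IsColimit.desc hc fun j =>
    if h : j = i then eqToHom (by rw [h]) else 0
  have h₁ : ∀ i, c'.inj i ≫ π i = 𝟙 _ := fun i => by simp [π]
  have h₂ : ∀ i j, i ≠ j → c'.inj i ≫ π j = 0 := fun i j h => by simp [π, h]
  choose S hS using fun (X : FP A) (p : X.obj ⟶ c'.pt) =>
    exists_finset_decomposition hc π h₁ h₂ X p
  have hz : ∀ (X : FP A) (p : X.obj ⟶ c'.pt) (i : J), i ∉ S X p → p ≫ π i = 0 := by
    intro X p i hi
    rw [hS X p, Preadditive.sum_comp]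
    refine Finset.sum_eq_zero fun j hj => ?_
    rw [Category.assoc, Category.assoc, h₂ j i (ne_of_mem_of_not_mem hj hi), comp_zero, comp_zero]
  let s' : ∀ s : Cocone (Discrete.functor f ⋙ E), ∀ i, E.obj (f i) ⟶ s.pt := fun s i => s.ι.app ⟨i⟩
  have hind : ∀ (s : Cocone (Discrete.functor f ⋙ E)) (X : FP A) (p : X.obj ⟶ c'.pt) (T : Finset J),
      S X p ⊆ T → ∑ i ∈ S X p, E.map (p ≫ π i) ≫ s' s i = ∑ i ∈ T, E.map (p ≫ π i) ≫ s' s i :=
    fun s X p T hT => Finset.sum_subset hT fun i _ hi => by rw [hz X p i hi, E.map_zero, zero_comp]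
  choose d hd using fun s : Cocone (Discrete.functor f ⋙ E) => exists_desc_of_preserves E
    (fun X p => ∑ i ∈ S X p, E.map (p ≫ π i) ≫ s' s i) fun X X' h p => by
      rw [hind s X (h.hom ≫ p) (S X (h.hom ≫ p) ∪ S X' p) Finset.subset_union_left,
        hind s X' p _ (Finset.subset_union_right (s₁ := S X (h.hom ≫ p))), Preadditive.comp_sum]
      simp only [← E.map_comp_assoc, Category.assoc]
  refine { desc := d, fac := fun s ⟨i⟩ => ?_, uniq := fun s m hm => ?_ }
  · refine hom_ext_of_preserves E fun X q => ?_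
    change E.map q ≫ E.map (c'.inj i) ≫ d s = E.map q ≫ s' s i
    rw [← E.map_comp_assoc, hd, hind s X _ _ (Finset.subset_union_left (s₂ := {i})),
      Finset.sum_eq_single i]
    · rw [Category.assoc, h₁]
      erw [Category.comp_id]
    · intro j _ hji
      rw [Category.assoc, h₂ i j (Ne.symm hji), comp_zero, E.map_zero, zero_comp]
    · simp
  · refine hom_ext_of_preserves E fun X p => ?_
    rw [hd]
    conv_lhs => rw [hS X p]
    rw [E.map_sum, Preadditive.sum_comp]
    refine Finset.sum_congr rfl fun i _ => ?_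
    rw [← Category.assoc p, E.map_comp, Category.assoc]
    exact congrArg (E.map (p ≫ π i) ≫ ·) (hm ⟨i⟩)

theorem preservesCokernels [PreservesFiniteColimits ((prop A).ι ⋙ E)] [E.Additive]
    {M N : ModuleCat.{u} A} (f : M ⟶ N) : PreservesColimit (parallelPair f 0) E := by
  refine preservesColimit_of_preserves_colimit_cocone (cokernelIsCokernel f)
    ((CokernelCofork.isColimitMapCoconeEquiv _ E).symm ?_)
  set Q := cokernel f
  set q : N ⟶ Q := cokernel.π f
  have hq : Function.Surjective q := (ModuleCat.epi_iff_surjective q).1 inferInstance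
  have hex : Function.Exact f q :=
    (ShortComplex.ShortExact.moduleCat_exact_iff_function_exact _).1
      (ShortComplex.exact_of_g_is_cokernel (ShortComplex.mk f q (cokernel.condition f)) (cokernelIsCokernel f))
  choose n m π r w hπ hc using fun X : FP A => exists_presentation X
  have hlift : ∀ {k : ℕ} (z : (free A k).obj ⟶ Q), ∃ l : (free A k).obj ⟶ N, l ≫ q = z := fun {k} z => by
    obtain ⟨l, hl⟩ := Module.projective_lifting_property q.hom z.hom hq
    exact ⟨ModuleCat.ofHom l, ModuleCat.hom_ext hl⟩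
  have hlift0 : ∀ {k : ℕ} (z : (free A k).obj ⟶ N), z ≫ q = 0 →
      ∃ l : (free A k).obj ⟶ M, l ≫ f = z := fun {k} z hz => by
    obtain ⟨l, hl⟩ := Module.projective_lifting_property f.hom.rangeRestrict
      (z.hom.codRestrict _ fun x => (hex (z x)).1 (ConcreteCategory.congr_hom hz x))
      f.hom.surjective_rangeRestrict
    exact ⟨ModuleCat.ofHom l, ModuleCat.hom_ext (LinearMap.ext fun x =>
      congrArg Subtype.val (LinearMap.congr_fun hl x))⟩
  let hcF := fun X => CokernelCofork.mapIsColimit _ (hc X).some ((prop A).ι ⋙ E)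
  have hepi : ∀ X, Epi (E.map (π X).hom) := fun X => epi_of_isColimit_cofork (hcF X)
  have hex' : ∀ {T : B} (k : E.obj N ⟶ T), E.map f ≫ k = 0 → ∀ (X : FP A) (p : X.obj ⟶ Q),
      ∃ t : E.obj X.obj ⟶ T, ∀ (j : ℕ) (u : free A j ⟶ X) (l : (free A j).obj ⟶ N),
        l ≫ q = u.hom ≫ p → E.map u.hom ≫ t = E.map l ≫ k := by
    intro T k hk X p
    have hkill : ∀ {j : ℕ} (z : (free A j).obj ⟶ N), z ≫ q = 0 → E.map z ≫ k = 0 := fun z hz => by
      obtain ⟨l, rfl⟩ := hlift0 z hz
      rw [E.map_comp, Category.assoc, hk, comp_zero]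
    obtain ⟨l₀, hl₀⟩ := hlift ((π X).hom ≫ p)
    obtain ⟨t₀, ht⟩ := CokernelCofork.IsColimit.desc' (hcF X) (E.map l₀ ≫ k) (by
      change E.map (r X).hom ≫ E.map l₀ ≫ k = 0
      rw [← E.map_comp_assoc]
      refine hkill _ ?_
      rw [Category.assoc, hl₀, ← Category.assoc]
      change (r X ≫ π X).hom ≫ p = 0
      rw [w]
      exact zero_comp)
    let t : E.obj X.obj ⟶ T := t₀
    replace ht : E.map (π X).hom ≫ t = E.map l₀ ≫ k := ht
    refine ⟨t, fun j u l hl => ?_⟩
    obtain ⟨v, rfl⟩ := exists_lift (π X) (hπ X) u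
    change E.map (v.hom ≫ (π X).hom) ≫ t = _
    rw [E.map_comp, Category.assoc, ht, ← E.map_comp_assoc, ← sub_eq_zero, ← Preadditive.sub_comp,
      ← E.map_sub]
    refine hkill _ ?_
    rw [Preadditive.sub_comp, Category.assoc, hl₀, hl, ← Category.assoc, sub_eq_zero]
    rfl
  choose t ht using @hex'
  have hd : ∀ {T : B} (k : E.obj N ⟶ T) (hk : E.map f ≫ k = 0),
      ∃ d : E.obj Q ⟶ T, ∀ (X : FP A) (p : X.obj ⟶ Q), E.map p ≫ d = t k hk X p := fun {T} k hk => by
    refine exists_desc_of_preserves E (t k hk) fun X X' h p => ?_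
    haveI := hepi X
    rw [← cancel_epi (E.map (π X).hom), ← E.map_comp_assoc]
    obtain ⟨l, hl⟩ := hlift ((π X).hom ≫ h.hom ≫ p)
    rw [ht k hk X (h.hom ≫ p) _ (π X) l hl]
    exact ht k hk X' p _ (π X ≫ h) l (hl.trans (Category.assoc _ _ _).symm)
  choose d hd using @hd
  haveI : Epi (E.map q) := Preadditive.epi_of_cancel_zero _ fun {T} g hg =>
    hom_ext_of_preserves E fun X p => by
      haveI := hepi X
      obtain ⟨l, hl⟩ := hlift ((π X).hom ≫ p)
      rw [comp_zero, ← cancel_epi (E.map (π X).hom), comp_zero, ← E.map_comp_assoc, ← hl,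
        E.map_comp_assoc, hg, comp_zero]
  refine CokernelCofork.IsColimit.ofπ (E.map q)
    (show E.map f ≫ E.map q = 0 by rw [← E.map_comp, cokernel.condition, E.map_zero])
    (fun {T} k hk => d k hk) (fun {T} k hk => ?_)
    (fun {T} k hk b hb => (cancel_epi (E.map q)).1 (hb.trans ?_))
  · refine hom_ext_of_preserves E fun X p => ?_
    haveI := hepi X
    rw [← cancel_epi (E.map (π X).hom), ← E.map_comp_assoc p, hd]
    exact (ht k hk X (p ≫ q) _ (π X) ((π X).hom ≫ p) (Category.assoc _ _ _)).trans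
      (E.map_comp_assoc _ _ _)
  · refine hom_ext_of_preserves E fun X p => ?_
    haveI := hepi X
    rw [← cancel_epi (E.map (π X).hom), ← E.map_comp_assoc p, hd]
    exact ((ht k hk X (p ≫ q) _ (π X) ((π X).hom ≫ p) (Category.assoc _ _ _)).trans
      (E.map_comp_assoc _ _ _)).symm

end GrothLib.FPMod20
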