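import Mathlib

/-!
# The category of finitely presented modules
-/

set_option autoImplicit false
set_option linter.style.haveILetI false

universe u v' u'

open CategoryTheory CategoryTheory.Limits

noncomputable section

namespace GrothLib.FPMod20

variable (A : Type u) [CommRing A]

/-- Finitely presented modules, as an object property. -/
abbrev prop : ObjectProperty (ModuleCat.{u} A) := fun M => Module.FinitePresentation A M

/-- The category of finitely presented modules. -/
abbrev FP : Type (u + 1) := (prop A).FullSubcategory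

variable {A}

instance instFP (M : FP A) : Module.FinitePresentation A M.obj := M.property

/-- A finitely presented module as an object. -/
abbrev of (M : Type u) [AddCommGroup M] [Module A M] [Module.FinitePresentation A M] : FP A :=
  ⟨ModuleCat.of A M, inferInstanceAs (Module.FinitePresentation A M)⟩

/-- A linear map as a morphism. -/
abbrev hom {M N : FP A} (f : M.obj →ₗ[A] N.obj) : M ⟶ N := ObjectProperty.homMk (ModuleCat.ofHom f)

/-- The linear map of a morphism. -/
abbrev lin {M N : FP A} (f : M ⟶ N) : M.obj →ₗ[A] N.obj := f.hom.hom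

theorem ext' {M N : FP A} {f g : M ⟶ N} (h : ∀ x, lin f x = lin g x) : f = g :=
  ObjectProperty.hom_ext _ (ModuleCat.hom_ext (LinearMap.ext h))

instance : HasBinaryBiproducts (FP A) where
  has_binary_biproduct M N :=
    haveI : Module.FinitePresentation A (M.obj × N.obj) := inferInstance
    let b : BinaryBicone M N :=
      { pt := of (M.obj × N.obj)
        fst := hom (LinearMap.fst A M.obj N.obj)
        snd := hom (LinearMap.snd A M.obj N.obj)
        inl := hom (LinearMap.inl A M.obj N.obj)
        inr := hom (LinearMap.inr A M.obj N.obj)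
        inl_fst := ext' fun _ => rfl
        inl_snd := ext' fun _ => rfl
        inr_fst := ext' fun _ => rfl
        inr_snd := ext' fun _ => rfl }
    hasBinaryBiproduct_of_total b (ext' fun x => by
      change ((x.1, 0) + (0, x.2) : M.obj × N.obj) = x
      simp)

instance : HasZeroObject (FP A) :=
  ⟨of (Fin 0 → A), (IsZero.iff_id_eq_zero _).2 (ext' fun _ => funext fun i => i.elim0)⟩

theorem additive_of_rightExact {B : Type u'} [Category.{v'} B] [Preadditive B]
    (F : FP A ⥤ B) [PreservesFiniteColimits F] : F.Additive := by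
  haveI : F.PreservesZeroMorphisms := ⟨fun X Y => by
    obtain ⟨Z, hZ⟩ := HasZeroObject.zero (C := FP A)
    have hinit : IsInitial (F.obj Z) :=
      (IsInitial.ofUnique (h := fun T => ⟨⟨hZ.to_ T⟩, fun f => hZ.eq_of_src f _⟩) Z).isInitialObj F Z
    have h0 : 𝟙 (F.obj Z) = 0 := hinit.hom_ext _ _
    rw [show (0 : X ⟶ Y) = hZ.from_ X ≫ 𝟙 Z ≫ hZ.to_ Y from (by rw [hZ.eq_of_src (𝟙 Z) 0]; simp),
      F.map_comp, F.map_comp, F.map_id, h0]
    simp⟩
  haveI : PreservesBinaryBiproducts F :=
    preservesBinaryBiproducts_of_preservesBinaryCoproducts F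
  exact Functor.additive_of_preservesBinaryBiproducts F

variable (A) in
/-- The rank one free module. -/
abbrev one : FP A := of A

variable (A) in
/-- Free modules of finite rank. -/
abbrev free (n : ℕ) : FP A := of (Fin n → A)

/-- Coordinate inclusion. -/
abbrev inj {n : ℕ} (i : Fin n) : one A ⟶ free A n := hom (LinearMap.single A (fun _ => A) i)

/-- Coordinate projection. -/
abbrev proj {n : ℕ} (i : Fin n) : free A n ⟶ one A := hom (LinearMap.proj i)

/-- Multiplication by a scalar on the rank one free module. -/
abbrev mul (a : A) : one A ⟶ one A := hom (LinearMap.lsmul A A a)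

theorem eq_mul (f : one A ⟶ one A) : f = mul (lin f (1 : A)) := ext' fun x => by
  change lin f x = lin f (1 : A) • (x : A)
  rw [smul_eq_mul, mul_comm, ← smul_eq_mul, ← map_smul, smul_eq_mul, mul_one]

theorem sum_proj_inj (n : ℕ) : ∑ i : Fin n, proj (A := A) i ≫ inj i = 𝟙 (free A n) := ext' fun x => by
  have : lin (∑ i : Fin n, proj (A := A) i ≫ inj i) =
      ∑ i : Fin n, lin (proj (A := A) i ≫ inj i) :=
    (congrArg ModuleCat.Hom.hom ((prop A).ι.map_sum _ Finset.univ)).trans (ModuleCat.hom_sum _ _)
  rw [this, LinearMap.sum_apply]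
  exact Finset.univ_sum_single (show Fin n → A from x)

theorem inj_proj {n : ℕ} (i : Fin n) : inj (A := A) i ≫ proj i = 𝟙 _ :=
  ext' fun x => Pi.single_eq_same (M := fun _ : Fin n => A) i x

theorem inj_proj_of_ne {n : ℕ} {i j : Fin n} (h : j ≠ i) : inj (A := A) i ≫ proj j = 0 :=
  ext' fun x => Pi.single_eq_of_ne (M := fun _ : Fin n => A) h x

/-- A finite presentation of a finitely presented module. -/
theorem exists_presentation (X : FP A) :
    ∃ (n m : ℕ) (π : free A n ⟶ X) (d : free A m ⟶ free A n) (w : d ≫ π = 0),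
      Function.Surjective (lin π) ∧ Nonempty (IsColimit (CokernelCofork.ofπ π w)) := by
  obtain ⟨n, m, f, g, hf, hfg⟩ := Module.FinitePresentation.exists_fin' A X.obj
  refine ⟨n, m, hom f, hom g, ext' fun x => hfg.apply_apply_eq_zero x, hf, ⟨?_⟩⟩
  have hlift : ∀ {T : FP A} (k : free A n ⟶ T), (hom g : free A m ⟶ free A n) ≫ k = 0 →
      ∃ h : X.obj →ₗ[A] T.obj, ∀ x, h (f x) = lin k x := fun {T} k hk => by
    refine ⟨(Submodule.liftQ (LinearMap.ker f) (lin k) ?_).comp
      (f.quotKerEquivOfSurjective hf).symm.toLinearMap, fun x => ?_⟩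
    · intro x hx
      obtain ⟨y, rfl⟩ := (hfg x).1 hx
      exact LinearMap.congr_fun (congrArg lin hk) y
    · rw [LinearMap.comp_apply, LinearEquiv.coe_coe, LinearMap.quotKerEquivOfSurjective_symm_apply]
      rfl
  choose h hh using @hlift
  refine CokernelCofork.IsColimit.ofπ _ _ (fun {T} k hk => hom (h k hk))
    (fun {T} k hk => ext' fun x => hh k hk x) (fun {T} k hk b hb => ext' fun y => ?_)
  obtain ⟨x, rfl⟩ := hf y
  exact (LinearMap.congr_fun (congrArg lin hb) x).trans (hh k hk x).symm

/-- Lifting a map out of a free module along a surjection. -/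
theorem exists_lift {n : ℕ} {X Y : FP A} (p : Y ⟶ X) (hp : Function.Surjective (lin p))
    (f : free A n ⟶ X) : ∃ g : free A n ⟶ Y, g ≫ p = f := by
  obtain ⟨h, hh⟩ := Module.projective_lifting_property (lin p) (lin f) hp
  exact ⟨hom h, ext' fun x => LinearMap.congr_fun hh x⟩

end GrothLib.FPMod20
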