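import Groth.Agent.Lib.FPMod20.Presentable

/-!
# Extending functors from finitely presented modules
-/

set_option autoImplicit false
set_option linter.style.haveILetI false

universe u v' u'

open CategoryTheory CategoryTheory.Limits

noncomputable section

namespace GrothLib.FPMod20

variable {A : Type u} [CommRing A] {B : Type u'} [Category.{v'} B]

section Preserves

variable {F : FP A ⥤ B} {E : ModuleCat.{u} A ⥤ B} (α : F ⟶ (prop A).ι ⋙ E)
  (hE : (Functor.LeftExtension.mk E α).IsPointwiseLeftKanExtension)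

include hE in
theorem hom_ext_over {M : ModuleCat.{u} A} {T : B} {g h : E.obj M ⟶ T}
    (H : ∀ (X : FP A) (p : X.obj ⟶ M), α.app X ≫ E.map p ≫ g = α.app X ≫ E.map p ≫ h) : g = h :=
  (hE M).hom_ext fun X => ((Category.assoc _ _ _).trans (H X.left X.hom)).trans (Category.assoc _ _ _).symm

include hE in
theorem exists_desc_over {M : ModuleCat.{u} A} {T : B}
    (φ : ∀ (X : FP A), (X.obj ⟶ M) → (F.obj X ⟶ T))
    (H : ∀ (X X' : FP A) (h : X ⟶ X') (p : X'.obj ⟶ M),
      F.map h ≫ φ X' p = φ X (h.hom ≫ p)) :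
    ∃ g : E.obj M ⟶ T, ∀ (X : FP A) (p : X.obj ⟶ M), α.app X ≫ E.map p ≫ g = φ X p := by
  let k : Cocone (CostructuredArrow.proj (prop A).ι M ⋙ F) :=
    { pt := T
      ι :=
        { app := fun X => φ X.left X.hom
          naturality := fun X X' h => by
            have hw : h.left.hom ≫ X'.hom = X.hom := CostructuredArrow.w h
            exact ((H X.left X'.left h.left X'.hom).trans (congrArg _ hw)).trans (Category.comp_id _).symm } }
  refine ⟨(hE M).desc k, fun X p => ?_⟩
  have := (hE M).fac k (CostructuredArrow.mk (Y := X) p)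
  exact (Category.assoc _ _ _).symm.trans this

include hE in
theorem preservesFilteredColimits : PreservesFilteredColimitsOfSize.{u, u} E := by
  refine ⟨fun J _ _ => ⟨fun {D} => ⟨fun {c} hc => ?_⟩⟩⟩
  have wd : ∀ (s : Cocone (D ⋙ E)) (X : FP A) {j j' : J} (g : X.obj ⟶ D.obj j)
      (g' : X.obj ⟶ D.obj j'), g ≫ c.ι.app j = g' ≫ c.ι.app j' →
      α.app X ≫ E.map g ≫ s.ι.app j = α.app X ≫ E.map g' ≫ s.ι.app j' := by
    intro s X j j' g g' h
    obtain ⟨k, e, e', hk⟩ := exists_eq' hc X.obj g g' h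
    have w1 : E.map (D.map e) ≫ s.ι.app k = s.ι.app j := s.w e
    have w2 : E.map (D.map e') ≫ s.ι.app k = s.ι.app j' := s.w e'
    rw [← w1, ← w2, ← E.map_comp_assoc g, ← E.map_comp_assoc g', hk]
  choose j g hg using fun (X : FP A) (p : X.obj ⟶ c.pt) => exists_factor hc X.obj p
  have hd : ∀ s : Cocone (D ⋙ E), ∃ d : E.obj c.pt ⟶ s.pt, ∀ (X : FP A) (p : X.obj ⟶ c.pt),
      α.app X ≫ E.map p ≫ d = α.app X ≫ E.map (g X p) ≫ s.ι.app (j X p) := by
    intro s
    refine exists_desc_over α hE (fun X p => α.app X ≫ E.map (g X p) ≫ s.ι.app (j X p))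
      fun X X' h p => ?_
    have hn : F.map h ≫ α.app X' = α.app X ≫ E.map h.hom := α.naturality h
    rw [← Category.assoc, hn, Category.assoc, ← E.map_comp_assoc]
    exact wd s X _ _ (by rw [Category.assoc, hg, hg])
  choose d hd using hd
  refine ⟨{ desc := d, fac := fun s i => ?_, uniq := fun s m hm => ?_ }⟩
  · refine hom_ext_over α hE fun X p => ?_
    change α.app X ≫ E.map p ≫ E.map (c.ι.app i) ≫ d s = _
    rw [← E.map_comp_assoc, hd]
    exact wd s X _ p (hg X _)
  · refine hom_ext_over α hE fun X p => ?_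
    rw [hd]
    conv_lhs => rw [← hg X p]
    rw [E.map_comp_assoc]
    congr 2
    exact hm _

end Preserves

/-- A filtered-colimit preserving functor is the extension of its restriction. -/
theorem isPointwiseLeftKanExtension (E : ModuleCat.{u} A ⥤ B)
    [PreservesFilteredColimitsOfSize.{u, u} E] {F : FP A ⥤ B} (e : F ≅ (prop A).ι ⋙ E) :
    Nonempty (Functor.LeftExtension.mk E e.hom).IsPointwiseLeftKanExtension := by
  refine ⟨fun M => ?_⟩
  haveI := preservesColimitsOfShape_over M E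
  refine IsColimit.ofIsoColimit ((IsColimit.precomposeHomEquiv
    (Functor.isoWhiskerLeft (CostructuredArrow.proj (prop A).ι M) e ≪≫ (Functor.associator _ _ _).symm)
    (E.mapCocone (canonical M))).symm (isColimitOfPreserves E (isDenseAt M).some)) ?_
  refine Cocone.ext (Iso.refl _) fun X => ?_
  change (_ ≫ E.map ((canonical M).ι.app X)) ≫ 𝟙 _ = _
  rw [canonical_ι_app, Category.comp_id]
  simp
  rfl

/-- A functor on finitely presented modules extends. -/
theorem exists_extension [HasFilteredColimitsOfSize.{u, u} B] (F : FP A ⥤ B) :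
    ∃ E : ModuleCat.{u} A ⥤ B, PreservesFilteredColimitsOfSize.{u, u} E ∧
      Nonempty ((prop A).ι ⋙ E ≅ F) := by
  haveI : (prop A).ι.HasPointwiseLeftKanExtension F := fun M => inferInstance
  let E := (prop A).ι.pointwiseLeftKanExtension F
  let α := (prop A).ι.pointwiseLeftKanExtensionUnit F
  let hE := (prop A).ι.pointwiseLeftKanExtensionIsPointwiseLeftKanExtension F
  haveI : IsIso (Functor.LeftExtension.mk E α).hom :=
    hE.isIso_hom
  exact ⟨E, preservesFilteredColimits α hE, ⟨(asIso (Functor.LeftExtension.mk E α).hom).symm⟩⟩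

/-- Extensions are unique. -/
theorem extension_unique (F₁ F₂ : ModuleCat.{u} A ⥤ B) [PreservesFilteredColimitsOfSize.{u, u} F₁]
    [PreservesFilteredColimitsOfSize.{u, u} F₂] (e : (prop A).ι ⋙ F₁ ≅ (prop A).ι ⋙ F₂) :
    Nonempty (F₁ ≅ F₂) := by
  haveI : F₁.IsLeftKanExtension (Iso.refl ((prop A).ι ⋙ F₁)).hom :=
    (isPointwiseLeftKanExtension F₁ (Iso.refl ((prop A).ι ⋙ F₁))).some.isLeftKanExtension
  haveI : F₂.IsLeftKanExtension e.hom :=
    (isPointwiseLeftKanExtension F₂ e).some.isLeftKanExtension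
  exact ⟨Functor.leftKanExtensionUnique F₁ (Iso.refl ((prop A).ι ⋙ F₁)).hom F₂ e.hom⟩

theorem hom_ext_of_preserves (E : ModuleCat.{u} A ⥤ B) [PreservesFilteredColimitsOfSize.{u, u} E]
    {M : ModuleCat.{u} A} {T : B} {g h : E.obj M ⟶ T}
    (H : ∀ (X : FP A) (p : X.obj ⟶ M), E.map p ≫ g = E.map p ≫ h) : g = h :=
  hom_ext_over (𝟙 _) (isPointwiseLeftKanExtension E (Iso.refl _)).some
    (fun X p => by simpa using H X p)

theorem exists_desc_of_preserves (E : ModuleCat.{u} A ⥤ B) [PreservesFilteredColimitsOfSize.{u, u} E]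
    {M : ModuleCat.{u} A} {T : B} (φ : ∀ (X : FP A), (X.obj ⟶ M) → (E.obj X.obj ⟶ T))
    (H : ∀ (X X' : FP A) (h : X ⟶ X') (p : X'.obj ⟶ M),
      E.map h.hom ≫ φ X' p = φ X (h.hom ≫ p)) :
    ∃ g : E.obj M ⟶ T, ∀ (X : FP A) (p : X.obj ⟶ M), E.map p ≫ g = φ X p := by
  obtain ⟨g, hg⟩ := exists_desc_over (F := (prop A).ι ⋙ E) (𝟙 _)
    (isPointwiseLeftKanExtension E (Iso.refl _)).some φ H
  exact ⟨g, fun X p => by simpa using hg X p⟩

end GrothLib.FPMod20
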