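import Groth.Agent.Lib.FPMod20.Additive
import Groth.Agent.Lib.DCxRing.Coherent

/-!
# Left exactness of extensions over a coherent ring
-/

set_option autoImplicit false
set_option linter.style.haveILetI false
set_option linter.unusedSectionVars false

universe u v' u'

open CategoryTheory CategoryTheory.Limits

noncomputable section

namespace GrothLib.FPMod20

variable {A : Type u} [CommRing A] {B : Type u'} [Category.{v'} B] [Preadditive B]

theorem additive_of_leftExact (F : FP A ⥤ B) [PreservesFiniteLimits F] : F.Additive := by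
  haveI : F.PreservesZeroMorphisms := ⟨fun X Y => by
    obtain ⟨Z, hZ⟩ := HasZeroObject.zero (C := FP A)
    have hterm : IsTerminal (F.obj Z) :=
      (IsTerminal.ofUnique (h := fun T => ⟨⟨hZ.from_ T⟩, fun f => hZ.eq_of_tgt f _⟩) Z).isTerminalObj F Z
    have h0 : 𝟙 (F.obj Z) = 0 := hterm.hom_ext _ _
    rw [show (0 : X ⟶ Y) = hZ.from_ X ≫ 𝟙 Z ≫ hZ.to_ Y from (by rw [hZ.eq_of_src (𝟙 Z) 0]; simp),
      F.map_comp, F.map_comp, F.map_id, h0]
    simp⟩
  haveI : PreservesBinaryBiproducts F := preservesBinaryBiproducts_of_preservesBinaryProducts F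
  exact Functor.additive_of_preservesBinaryBiproducts F

variable (E : ModuleCat.{u} A ⥤ B) [PreservesFilteredColimitsOfSize.{u, u} E] [E.Additive]
  [HasKernels B] [HasFilteredColimitsOfSize.{u, u} B]
  (hcomm : ∀ (J : Type u) [SmallCategory J] [IsFiltered J],
      PreservesLimitsOfShape WalkingParallelPair (colim : (J ⥤ B) ⥤ B))

include hcomm in
/-- A kernel-preservation statement passes to filtered colimits. -/
theorem preservesKernel_of_colimit {J : Type*} [Category J] [EssentiallySmall.{u} J] [IsFiltered J]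
    {D₁ D₂ : J ⥤ ModuleCat.{u} A} (φ : D₁ ⟶ D₂) {c₁ : Cocone D₁} {c₂ : Cocone D₂}
    (h₁ : IsColimit c₁) (h₂ : IsColimit c₂) (f : c₁.pt ⟶ c₂.pt)
    (hf : ∀ j, c₁.ι.app j ≫ f = φ.app j ≫ c₂.ι.app j)
    (H : ∀ j, PreservesLimit (parallelPair (φ.app j) 0) E) :
    PreservesLimit (parallelPair f 0) E := by
  let e := (equivSmallModel.{u} J).symm
  let K := SmallModel.{u} J
  haveI : IsFiltered K := IsFiltered.of_equivalence e.symm
  let g₁ : Cocone (e.functor ⋙ D₁) := c₁.whisker e.functor
  let g₂ : Cocone (e.functor ⋙ D₂) := c₂.whisker e.functor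
  let hg₁ : IsColimit g₁ := h₁.whiskerEquivalence e
  let hg₂ : IsColimit g₂ := h₂.whiskerEquivalence e
  let ψ : e.functor ⋙ D₁ ⟶ e.functor ⋙ D₂ := Functor.whiskerLeft e.functor φ
  haveI : HasColimitsOfShape K B := HasFilteredColimitsOfSize.HasColimitsOfShape K
  haveI := preservesColimitsOfShape_of_natIso (J := K) (Iso.refl E)
  haveI : PreservesColimitsOfShape K E := PreservesFilteredColimitsOfSize.preserves_filtered_colimits K
  let W : (K ⥤ ModuleCat.{u} A) ⥤ (K ⥤ B) := (Functor.whiskeringRight K _ _).obj E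
  haveI hW : PreservesLimit (parallelPair ψ 0) W := by
    refine preservesLimit_of_evaluation W _ fun k => ?_
    let i : parallelPair ψ 0 ⋙ (evaluation K _).obj k ≅ parallelPair (φ.app (e.functor.obj k)) 0 :=
      parallelPair.ext (Iso.refl _) (Iso.refl _) (by simp [ψ]) (by simp)
    haveI := H (e.functor.obj k)
    haveI : PreservesLimit (parallelPair ψ 0 ⋙ (evaluation K _).obj k) E :=
      preservesLimit_of_iso_diagram E i.symm
    exact inferInstanceAs (PreservesLimit (parallelPair ψ 0) ((evaluation K _).obj k ⋙ E))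
  haveI := hcomm K
  haveI : PreservesLimit (parallelPair ψ 0) (W ⋙ colim) := inferInstance
  haveI hcomp : PreservesLimit (parallelPair ψ 0) (colim ⋙ E) :=
    preservesLimit_of_natIso (parallelPair ψ 0) (preservesColimitNatIso E).symm
  haveI : PreservesFiniteLimits (colim : (K ⥤ ModuleCat.{u} A) ⥤ ModuleCat.{u} A) := inferInstance
  haveI : PreservesLimit (parallelPair ψ 0 ⋙ colim) E :=
    preservesLimit_of_preserves_limit_cone (isLimitOfPreserves colim (limit.isLimit (parallelPair ψ 0)))
      (isLimitOfPreserves (colim ⋙ E) (limit.isLimit (parallelPair ψ 0)))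
  let u₁ : colimit (e.functor ⋙ D₁) ≅ c₁.pt := (colimit.isColimit _).coconePointUniqueUpToIso hg₁
  let u₂ : colimit (e.functor ⋙ D₂) ≅ c₂.pt := (colimit.isColimit _).coconePointUniqueUpToIso hg₂
  refine preservesLimit_of_iso_diagram E (K₁ := parallelPair ψ 0 ⋙ colim)
    (parallelPair.ext u₁ u₂ ?_ ?_)
  · refine colimit.hom_ext fun k => ?_
    simp [u₁, u₂, ψ, g₁, g₂, hf]
  · refine colimit.hom_ext fun k => ?_
    simp

variable (hA : ∀ I : Ideal A, I.FG → Module.FinitePresentation A I)
  [PreservesFiniteLimits ((prop A).ι ⋙ E)]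

include hA in
theorem preservesKernel_fp {X Y : FP A} (f : X.obj ⟶ Y.obj) : PreservesLimit (parallelPair f 0) E := by
  haveI : Module.FinitePresentation A (LinearMap.ker f.hom) := DR.finitePresentation_ker hA f.hom
  let f' : X ⟶ Y := hom f.hom
  let c : KernelFork f' := KernelFork.ofι (hom (LinearMap.ker f.hom).subtype : of (LinearMap.ker f.hom) ⟶ X)
    (ext' fun x => x.2)
  let hc' : IsLimit (c.map (prop A).ι) := ModuleCat.kernelIsLimit f
  let hc : IsLimit c := isLimitOfReflects (prop A).ι ((c.isLimitMapConeEquiv (prop A).ι).symm hc')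
  haveI := additive_of_leftExact ((prop A).ι ⋙ E)
  let hc'' : IsLimit (c.map ((prop A).ι ⋙ E)) := c.mapIsLimit hc _
  exact preservesLimit_of_preserves_limit_cone (ModuleCat.kernelIsLimit f)
    (((ModuleCat.kernelCone f).isLimitMapConeEquiv E).symm hc'')

include hA hcomm in
theorem preservesKernel_source_fp {X : FP A} {N : ModuleCat.{u} A} (f : X.obj ⟶ N) :
    PreservesLimit (parallelPair f 0) E := by
  let X₀ : Over' N := CostructuredArrow.mk (Y := X) f
  haveI := IsFiltered.isConnected (Under X₀)
  let D₂ : Under X₀ ⥤ ModuleCat.{u} A :=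
    Under.forget X₀ ⋙ CostructuredArrow.proj (prop A).ι N ⋙ (prop A).ι
  let φ : (Functor.const (Under X₀)).obj X.obj ⟶ D₂ :=
    { app := fun j => j.hom.left.hom
      naturality := fun i j k => (Category.id_comp _).trans
        (congrArg (fun t => t.left.hom) (Under.w k)).symm }
  haveI : EssentiallySmall.{u} (Under X₀) :=
    inferInstanceAs (EssentiallySmall.{u} (StructuredArrow X₀ (𝟭 (Over' N))))
  refine preservesKernel_of_colimit E hcomm φ (isColimitConstCocone (Under X₀) X.obj)
    ((Functor.Final.isColimitWhiskerEquiv (Under.forget X₀) (canonical N)).symm (isDenseAt N).some)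
    f (fun j => ?_) (fun j => preservesKernel_fp E hA (φ.app j))
  simp only [Cocone.whisker_ι, Functor.whiskerLeft_app, constCocone_ι]
  rw [canonical_ι_app]
  exact (Category.id_comp f).trans (CostructuredArrow.w j.hom).symm

include hA hcomm in
theorem preservesKernel {M N : ModuleCat.{u} A} (f : M ⟶ N) :
    PreservesLimit (parallelPair f 0) E := by
  haveI := IsFiltered.isConnected (Over' M)
  let φ : CostructuredArrow.proj (prop A).ι M ⋙ (prop A).ι ⟶ (Functor.const (Over' M)).obj N :=
    { app := fun j => j.hom ≫ f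
      naturality := fun i j k => by
        have : k.left.hom ≫ j.hom = i.hom := CostructuredArrow.w k
        change k.left.hom ≫ j.hom ≫ f = (i.hom ≫ f) ≫ 𝟙 _
        rw [← this, Category.comp_id, Category.assoc] }
  refine preservesKernel_of_colimit E hcomm φ (isDenseAt M).some (isColimitConstCocone (Over' M) N) f
    (fun j => ?_) (fun j => preservesKernel_source_fp E hcomm hA _)
  have := canonical_ι_app M j
  simp only [canonical] at this
  erw [this]
  exact (Category.comp_id _).symm

include hA hcomm in
theorem preservesFiniteLimits [HasFiniteBiproducts B] : PreservesFiniteLimits E := by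
  haveI : ∀ {M N : ModuleCat.{u} A} (f : M ⟶ N), PreservesLimit (parallelPair f 0) E :=
    fun f => preservesKernel E hcomm hA f
  exact Functor.preservesFiniteLimits_of_preservesKernels E

end GrothLib.FPMod20
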